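import Groth.Agent.Lib.VanFib13.Apply
import Groth.Agent.Lib.CurveLocus.GeomFibre
import Groth.Agent.Lib.CIPic27.Lift
import Groth.Agent.Lib.NPow20.Lifting
import Groth.Agent.Lib.TensorMod.IdealMod
import Groth.Agent.Lib.CohFound.HHBridge

/-!
# Invertible modules lift on families of curves along square zero thickenings of affine bases
-/

set_option autoImplicit false
set_option linter.style.haveILetI false
set_option backward.isDefEq.respectTransparency false
set_option backward.isDefEq.respectTransparency.types false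

universe u

open CategoryTheory CategoryTheory.Limits AlgebraicGeometry TopologicalSpace

noncomputable section

namespace Groth.Agent.PicSm20

attribute [local instance] M2.law

variable {X S : Scheme.{u}} (f : X ⟶ S)

/-- Fibres of a base change are not bigger. -/
theorem topologicalKrullDim_preimage_le [LocallyOfFiniteType f] {d : WithBot ℕ∞}
    (hd : ∀ s, topologicalKrullDim ↥(f.fiber s) ≤ d) {T : Scheme.{u}} (g : T ⟶ S) (t : T) :
    topologicalKrullDim ↥(pullback.snd f g ⁻¹' {t} : Set _) ≤ d := by
  rw [← ((pullback.snd f g).fiberHomeo t).isHomeomorph.topologicalKrullDim_eq]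
  let a := pullback.fst (pullback.snd f g) (T.fromSpecResidueField t)
  let b := pullback.snd (pullback.snd f g) (T.fromSpecResidueField t)
  let a' := pullback.fst f (S.fromSpecResidueField (g t))
  have hout : IsPullback (a ≫ pullback.fst f g) b f (Spec.map (g.residueFieldMap t) ≫ S.fromSpecResidueField (g t)) := by
    rw [Scheme.Hom.SpecMap_residueFieldMap_fromSpecResidueField]
    exact (IsPullback.of_hasPullback (pullback.snd f g) (T.fromSpecResidueField t)).paste_horiz
      (IsPullback.of_hasPullback f g)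
  let F : (pullback.snd f g).fiber t ⟶ f.fiber (g t) :=
    pullback.lift (a ≫ pullback.fst f g) (b ≫ Spec.map (g.residueFieldMap t)) (by
      rw [Category.assoc b]; exact hout.w)
  have hF : F ≫ a' = a ≫ pullback.fst f g := pullback.lift_fst _ _ _
  have hpb : IsPullback F b (f.fiberToSpecResidueField (g t))
      (Spec.map (CommRingCat.ofHom (g.residueFieldMap t).hom)) := by
    refine IsPullback.of_right (h₁₂ := a') (v₁₃ := f) (h₂₂ := S.fromSpecResidueField (g t)) ?_
      (pullback.lift_snd _ _ _) (IsPullback.of_hasPullback f (S.fromSpecResidueField (g t)))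
    rw [hF]
    exact hout
  haveI : LocallyOfFiniteType (f.fiberToSpecResidueField (g t)) := MorphismProperty.pullback_snd _ _ inferInstance
  exact (CurveLocus.topologicalKrullDim_bc (k := S.residueField (g t)) (Ω := T.residueField t)
    (f.fiberToSpecResidueField (g t)) hpb).le.trans (hd (g t))

/-- `H²` of quasi-coherent modules vanishes on a family of curves over an affine base. -/
theorem subsingleton_HH_two [IsProper f] (hd : ∀ s, topologicalKrullDim ↥(f.fiber s) ≤ (1 : WithBot ℕ∞))
    {A : CommRingCat.{u}} (t : Spec A ⟶ S) {M : (pullback f t).Modules} (hM : Coh.IsQCoh M) :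
    Subsingleton (Coh.HH (pullback f t) M 2) := by
  haveI : IsProper (pullback.snd f t) := MorphismProperty.pullback_snd _ _ inferInstance
  haveI := VanFib13.subsingleton_of_fibreDim (pullback.snd f t) 1
    (fun y => (topologicalKrullDim_preimage_le f hd t y).trans (le_of_eq rfl)) hM (n := 2) Nat.one_lt_two
  exact FGA3.subsingleton_of_addEquiv (CohFound.hhExt M 2)

/-- Invertible classes lift along square zero closed immersions with vanishing obstruction group. -/
theorem exists_pl_eq_of_subsingleton {Z Y : Scheme.{u}} (p : Y ⟶ Z) [IsClosedImmersion p]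
    (hI : p.ker * p.ker = ⊥) [Subsingleton (Coh.HH Z (ClSub.idealMod p.ker) 2)] (c : PicLoc.PicSet Y) :
    ∃ d : PicLoc.PicSet Z, NPow20.pl p d = c := by
  let t : Y ≅ p.ker.subscheme := asIso p.toImage
  have hi : PicGrp.PullMul p.ker.subschemeι := M2.pullMul _
  obtain ⟨d, hd⟩ := (PicH1_21.δ₁Add_eq_zero_iff hI hi (NPow20.pl t.inv c)).1 (Subsingleton.elim _ _)
  refine ⟨d, ?_⟩
  have hd' : NPow20.pl p.ker.subschemeι d = NPow20.pl t.inv c := hd
  have h2 : NPow20.pl t.hom (NPow20.pl t.inv c) = c := by rw [← NPow20.pl_comp, t.hom_inv_id, NPow20.pl_id]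
  rw [← h2, ← hd', ← NPow20.pl_comp]
  exact Subtype.ext (by
    rw [PicGrp.pullHom_apply_val, PicGrp.pullHom_apply_val]
    exact congrArg (fun q => PicF.pullCl q d.1) p.toImage_imageι.symm)

/-- The kernel of a square zero quotient squares to zero. -/
theorem ker_mul_ker_mk_general {A : Type u} [CommRing A] {I : Ideal A} (h : I * I = ⊥) :
    (Spec.map (CommRingCat.ofHom (Ideal.Quotient.mk I))).ker *
      (Spec.map (CommRingCat.ofHom (Ideal.Quotient.mk I))).ker = ⊥ := by
  refine le_bot_iff.1 (Scheme.IdealSheafData.le_of_isAffine ?_)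
  rw [Scheme.IdealSheafData.ideal_mul, Pi.mul_apply, Scheme.Hom.ker_apply, Ideal.mul_le]
  intro x hx y hy
  rw [show (⊥ : (Spec (CommRingCat.of A)).IdealSheafData).ideal ⟨⊤, isAffineOpen_top _⟩ = ⊥ from rfl, Ideal.mem_bot]
  have key : ∀ x : Γ(Spec (CommRingCat.of A), ⊤), (Spec.map (CommRingCat.ofHom (Ideal.Quotient.mk I))).appTop x = 0 →
      (Scheme.ΓSpecIso (CommRingCat.of A)).hom x ∈ I := fun x hx => by
    rw [← Ideal.Quotient.eq_zero_iff_mem]
    have h := ConcreteCategory.congr_hom (Scheme.ΓSpecIso_naturality (CommRingCat.ofHom (Ideal.Quotient.mk I))) x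
    refine Eq.trans ?_ ((congrArg _ hx).trans (map_zero (Scheme.ΓSpecIso (CommRingCat.of (A ⧸ I))).hom.hom))
    exact h.symm
  have h0 : (Scheme.ΓSpecIso (CommRingCat.of A)).hom x * (Scheme.ΓSpecIso (CommRingCat.of A)).hom y = 0 := by
    rw [← Ideal.mem_bot, ← h]
    exact Ideal.mul_mem_mul (key x hx) (key y hy)
  rw [← map_mul] at h0
  exact (ConcreteCategory.bijective_of_isIso (Scheme.ΓSpecIso (CommRingCat.of A)).hom).1 (h0.trans (map_zero (Scheme.ΓSpecIso (CommRingCat.of A)).hom.hom).symm)

/-- Classes lift along a square zero thickening of an affine test object. -/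
theorem exists_pl_tmk_eq_curve [IsProper f] (hd : ∀ s, topologicalKrullDim ↥(f.fiber s) ≤ (1 : WithBot ℕ∞))
    {A : Type u} [CommRing A] {I : Ideal A} (hI : I * I = ⊥) (t : Spec (CommRingCat.of A) ⟶ S)
    (c : PicLoc.PicSet (PicF.XT f (NPow20.Ts0 I t))) :
    ∃ d : PicLoc.PicSet (PicF.XT f (NPow20.Ts A t)), NPow20.pl (PicF.XTmap f (NPow20.tmk I t)) d = c := by
  haveI : IsClosedImmersion (NPow20.tmk I t).left := IsClosedImmersion.spec_of_surjective _ Ideal.Quotient.mk_surjective
  haveI : IsClosedImmersion (PicF.XTmap f (NPow20.tmk I t)) :=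
    MorphismProperty.of_isPullback (HilbBC25.isPullback_XTmap f (NPow20.tmk I t)).flip inferInstance
  have hsq : (PicF.XTmap f (NPow20.tmk I t)).ker * (PicF.XTmap f (NPow20.tmk I t)).ker = ⊥ := by
    rw [FormalH7.ker_of_isPullback (HilbBC25.isPullback_XTmap f (NPow20.tmk I t)), ← EffCartier.comap_mul]
    exact (congrArg (Scheme.IdealSheafData.comap · _) (ker_mul_ker_mk_general hI)).trans (Scheme.IdealSheafData.comap_bot _)
  have h2 := subsingleton_HH_two f hd t (M := ClSub.idealMod (PicF.XTmap f (NPow20.tmk I t)).ker)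
    (M2.isQCoh_idealMod _)
  exact @exists_pl_eq_of_subsingleton _ _ (PicF.XTmap f (NPow20.tmk I t)) _ hsq h2 c

end Groth.Agent.PicSm20
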