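import Groth.Agent.Lib.PicSm20.CurveLift
import Groth.Agent.Lib.RigDesc22.RelPic
import Groth.Agent.Lib.AbDual21.Phi

/-!
# Base change of fppf representations; functions on proper flat families
-/

set_option autoImplicit false
set_option linter.style.haveILetI false
set_option backward.isDefEq.respectTransparency false

universe u

open CategoryTheory CategoryTheory.Limits AlgebraicGeometry

noncomputable section

namespace Groth.Agent.PicSm20

theorem isIso_app {X T : Scheme.{u}} (p : X ⟶ T) [IsProper p] [Flat p] [LocallyOfFinitePresentation p]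
    [GeometricallyConnected p] [GeometricallyReduced p] (U : T.Opens) : IsIso (p.app U) := by
  haveI : IsProper (p ∣_ U) := MorphismProperty.of_isPullback (isPullback_morphismRestrict p U).flip ‹IsProper p›
  haveI : Flat (p ∣_ U) := MorphismProperty.of_isPullback (isPullback_morphismRestrict p U).flip ‹Flat p›
  haveI : LocallyOfFinitePresentation (p ∣_ U) :=
    MorphismProperty.of_isPullback (isPullback_morphismRestrict p U).flip ‹LocallyOfFinitePresentation p›
  haveI : GeometricallyConnected (p ∣_ U) :=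
    MorphismProperty.of_isPullback (isPullback_morphismRestrict p U).flip ‹GeometricallyConnected p›
  haveI : GeometricallyReduced (p ∣_ U) :=
    MorphismProperty.of_isPullback (isPullback_morphismRestrict p U).flip ‹GeometricallyReduced p›
  have h' : IsIso (p ∣_ U).appTop := (ConcreteCategory.isIso_iff_bijective _).2 (AbDual21.bijective_appTop (p ∣_ U))
  rw [morphismRestrict_appTop] at h'
  have h2 : IsIso (p.app (U.ι ''ᵁ ⊤)) := IsIso.of_isIso_comp_right _ (X.presheaf.map (eqToHom
    (image_morphismRestrict_preimage p U ⊤)).op)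
  rwa [Scheme.Opens.ι_image_top] at h2

theorem pull_pull {X Y Z : Scheme.{u}} (g : X ⟶ Y) (h : Y ⟶ Z) (c : PicF.Cl Z) :
    PicF.pullCl g (PicF.pullCl h c) = PicF.pullCl (g ≫ h) c := (PicLoc.pullCl_comp g h c).symm

/-- A representation of the fppf sheafified Picard functor base changes. -/
theorem isRelPicK_baseChange {X S S' : Scheme.{u}} (f : X ⟶ S) (g : S' ⟶ S)
    (P : Over S) (φ : ∀ T : Over S, PicF.Cl (PicF.XT f T) → (T ⟶ P))
    (hP : AbDual.IsRelPicK Scheme.fppfPrecoverage f P φ) :
    AbDual.IsRelPicK Scheme.fppfPrecoverage (pullback.snd f g) (Over.mk (pullback.snd P.hom g))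
      (fun T c => Over.homMk
        (pullback.lift (φ (Over.mk (T.hom ≫ g)) (PicF.pullCl (pullbackLeftPullbackSndIso f g T.hom).inv c)).left T.hom
          (Over.w (φ (Over.mk (T.hom ≫ g)) (PicF.pullCl (pullbackLeftPullbackSndIso f g T.hom).inv c))))
        (pullback.lift_snd _ _ _)) := by
  obtain ⟨hn, hs, hi⟩ := hP
  constructor
  · intro T1 T2 h c hc
    let h' : Over.mk (T2.hom ≫ g) ⟶ Over.mk (T1.hom ≫ g) := Over.homMk h.left (by simp [reassoc_of% (Over.w h)])
    have key : (pullbackLeftPullbackSndIso f g T2.hom).inv ≫ PicF.XTmap (pullback.snd f g) h =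
        PicF.XTmap f h' ≫ (pullbackLeftPullbackSndIso f g T1.hom).inv := by
      rw [Iso.inv_comp_eq, ← Category.assoc, Iso.eq_comp_inv]
      apply pullback.hom_ext <;> simp [PicF.XTmap, h']
    have e : φ (Over.mk (T2.hom ≫ g)) (PicF.pullCl (pullbackLeftPullbackSndIso f g T2.hom).inv
        (PicF.pullCl (PicF.XTmap (pullback.snd f g) h) c)) = h' ≫ φ (Over.mk (T1.hom ≫ g))
        (PicF.pullCl (pullbackLeftPullbackSndIso f g T1.hom).inv c) := by
      rw [pull_pull, key, ← pull_pull]
      exact hn _ _ h' _ (PicDesc21.isInvertibleCl_pull _ hc)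
    ext1
    apply pullback.hom_ext
    · simp [e, h']
    · simp
  · intro T h
    have hw : h.left ≫ pullback.snd P.hom g = T.hom := Over.w h
    let h' : Over.mk (T.hom ≫ g) ⟶ P := Over.homMk (h.left ≫ pullback.fst P.hom g)
      (by rw [Category.assoc, pullback.condition, ← Category.assoc, hw]; rfl)
    obtain ⟨R, hR, hc⟩ := hs _ h'
    refine ⟨R, hR, fun U v hv => ?_⟩
    obtain ⟨c, hc1, hc2⟩ := hc v hv
    let j : Over.mk ((AbDual.ovr T v).hom ≫ g) ⟶ AbDual.ovr (Over.mk (T.hom ≫ g)) v :=
      Over.homMk (𝟙 U) (by simp)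
    refine ⟨PicF.pullCl (pullbackLeftPullbackSndIso f g (AbDual.ovr T v).hom).hom
      (PicF.pullCl (PicF.XTmap f j) c), PicDesc21.isInvertibleCl_pull _ (PicDesc21.isInvertibleCl_pull _ hc1), ?_⟩
    ext1
    apply pullback.hom_ext
    · simp only [Over.homMk_left, pullback.lift_fst, Over.comp_left]
      rw [pull_pull, Iso.inv_hom_id]
      erw [PicLoc.pullCl_id, hn _ _ j c hc1, hc2]
      simp [j, h']
    · simp only [Over.homMk_left, pullback.lift_snd, Over.comp_left, Category.assoc]
      simp [hw]
  · intro T c c' hc hc' h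
    have h1 : φ (Over.mk (T.hom ≫ g)) (PicF.pullCl (pullbackLeftPullbackSndIso f g T.hom).inv c) =
        φ (Over.mk (T.hom ≫ g)) (PicF.pullCl (pullbackLeftPullbackSndIso f g T.hom).inv c') := by
      ext1
      have := congrArg (fun z => z.left ≫ pullback.fst P.hom g) h
      simpa using this
    obtain ⟨R, hR, hR'⟩ := hi _ _ _ (PicDesc21.isInvertibleCl_pull _ hc) (PicDesc21.isInvertibleCl_pull _ hc') h1
    refine ⟨R, hR, fun U v hv => ?_⟩
    let j : Over.mk ((AbDual.ovr T v).hom ≫ g) ⟶ AbDual.ovr (Over.mk (T.hom ≫ g)) v :=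
      Over.homMk (𝟙 U) (by simp)
    have key : PicF.XTmap f j ≫ PicF.XTmap f (AbDual.ovrHom (Over.mk (T.hom ≫ g)) v) ≫
        (pullbackLeftPullbackSndIso f g T.hom).inv =
        (pullbackLeftPullbackSndIso f g (AbDual.ovr T v).hom).inv ≫
          PicF.XTmap (pullback.snd f g) (AbDual.ovrHom T v) := by
      rw [eq_comm, Iso.inv_comp_eq, ← Category.assoc, ← Category.assoc, Iso.eq_comp_inv]
      apply pullback.hom_ext <;> simp [PicF.XTmap, j]
    have := congrArg (fun z => PicF.pullCl (pullbackLeftPullbackSndIso f g (AbDual.ovr T v).hom).hom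
      (PicF.pullCl (PicF.XTmap f j) z)) (hR' v hv)
    simp only [pull_pull, Category.assoc, key, Iso.hom_inv_id_assoc] at this
    exact this

end Groth.Agent.PicSm20
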