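import Mathlib.AlgebraicGeometry.Morphisms.Smooth

/-!
# Smoothness on an open subset is local
-/

set_option autoImplicit false

universe u

open CategoryTheory AlgebraicGeometry

namespace Groth.Agent.PicSm20

theorem smooth_of_locally {X Y : Scheme.{u}} (f : X ⟶ Y) (V : X.Opens)
    (h : ∀ x ∈ V, ∃ U : X.Opens, x ∈ U ∧ Smooth (U.ι ≫ f)) : Smooth (V.ι ≫ f) := by
  choose U hxU hU using fun x : V => h x.1 x.2
  refine (IsZariskiLocalAtSource.iff_of_iSup_eq_top (P := @Smooth) (fun x : V => V.ι ⁻¹ᵁ U x) ?_).2 fun x => ?_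
  · exact top_le_iff.1 fun y _ => TopologicalSpace.Opens.mem_iSup.2 ⟨y, hxU y⟩
  · haveI := hU x
    rw [← Category.assoc, ← morphismRestrict_ι, Category.assoc]
    infer_instance

end Groth.Agent.PicSm20
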