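import Groth.Agent.Lib.PicSm20.CurveRel
import Groth.Agent.Lib.PicSm20.Local
import Groth.Agent.Lib.SepDense19.Basic
import Groth.Agent.Lib.SmoothSection.Scheme
import Groth.Agent.S1488
import Groth.Agent.S2156
import Groth.Agent.S2805

/-!
# The relative Picard scheme of a family of curves is smooth
-/

set_option autoImplicit false
set_option linter.style.haveILetI false
set_option backward.isDefEq.respectTransparency false
set_option backward.isDefEq.respectTransparency.types false

universe u

open CategoryTheory CategoryTheory.Limits AlgebraicGeometry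

noncomputable section

namespace Groth.Agent.PicSm20

attribute [local instance] M2.law

variable {C S : Scheme.{u}} (f : C ⟶ S) [IsProper f] [Flat f] [LocallyOfFinitePresentation f]
  [GeometricallyReduced f]

/-- With a section, the Picard scheme of a family of curves is smooth. -/
theorem smooth_of_section [GeometricallyConnected f] (σ : S ⟶ C) (hσ : σ ≫ f = 𝟙 S)
    (hdim : ∀ s, topologicalKrullDim ↥(f.fiber s) ≤ (1 : WithBot ℕ∞))
    {P : Over S} {φ : ∀ T : Over S, PicF.Cl (PicF.XT f T) → (T ⟶ P)}
    (hP : AbDual.IsRelPicK Scheme.fppfPrecoverage f P φ) [LocallyOfFinitePresentation P.hom] :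
    Smooth P.hom := by
  refine (Groth.Agent.S1488.result P.hom).2 ⟨inferInstance, fun A _ I hI a b hab => ?_⟩
  have ha₀ := RigDesc22.bijective_appTop_of_isIso f fun T U => isIso_app (PicF.XTproj f T) U
  let v₀ : NPow20.Ts0 I b ⟶ P := Over.homMk a hab.symm
  obtain ⟨c, hc, -, hcv⟩ := RigDesc22.exists_rig f σ hσ (RigDesc22.good_invertible f)
    hP.natural hP.locallySurjective hP.locallyInjective ha₀ (NPow20.Ts0 I b) v₀
  obtain ⟨d, hd⟩ := exists_pl_tmk_eq_curve f hdim ((pow_two I).symm.trans hI) b ⟨c, hc⟩
  refine ⟨(φ _ d.1).left, ?_, Over.w (φ _ d.1)⟩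
  have h1 : φ (NPow20.Ts0 I b) c = NPow20.tmk I b ≫ φ (NPow20.Ts A b) d.1 := by
    rw [← hP.natural _ _ (NPow20.tmk I b) d.1 d.2]
    exact congrArg (φ _) (congrArg Subtype.val hd).symm
  exact (congrArg CommaMorphism.left (h1.symm.trans hcv) :)

/-- A flat family with geometrically reduced nonempty fibres has sections étale locally. -/
theorem exists_etale_section_cover (hne : ∀ s, Nonempty ↥(f.fiber s)) :
    ∃ (S' : Scheme.{u}) (g : S' ⟶ S), Etale g ∧ Surjective g ∧ ∃ h : S' ⟶ C, h ≫ f = g := by
  have key : ∀ s : S, ∃ (T : Scheme.{u}) (g : T ⟶ S) (t : T), Etale g ∧ g t = s ∧ ∃ h : T ⟶ C, h ≫ f = g := by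
    intro s
    letI : (f.fiber s).Over (Spec (CommRingCat.of (S.residueField s))) := ⟨f.fiberToSpecResidueField s⟩
    haveI : GeometricallyReduced (f.fiber s ↘ Spec (CommRingCat.of (S.residueField s))) :=
      MorphismProperty.pullback_snd (P := @GeometricallyReduced) _ _ inferInstance
    haveI : LocallyOfFinitePresentation (f.fiber s ↘ Spec (CommRingCat.of (S.residueField s))) :=
      MorphismProperty.pullback_snd (P := @LocallyOfFinitePresentation) _ _ inferInstance
    haveI : LocallyOfFiniteType (f.fiber s ↘ Spec (CommRingCat.of (S.residueField s))) := inferInstance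
    haveI := hne s
    obtain ⟨z, hz⟩ := (SepDense19.dense_smoothLocus (k := S.residueField s) (X := f.fiber s)).nonempty
    obtain ⟨⟨x, hx⟩, rfl⟩ := (f.fiberHomeo s).symm.surjective z
    subst hx
    haveI : LocallyOfFinitePresentation (f.fiberToSpecResidueField (f.base x)) :=
      MorphismProperty.pullback_snd (P := @LocallyOfFinitePresentation) _ _ inferInstance
    have hmem : x ∈ f.smoothLocus := (Groth.Agent.S2156.result f x).2 ⟨Flat.stalkMap f x, hz⟩
    haveI : Smooth (f.smoothLocus.ι ≫ f) := by
      rw [← Scheme.Hom.smoothLocus_eq_top_iff, ← Scheme.Hom.preimage_smoothLocus_eq, Scheme.Opens.ι_preimage_self]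
    obtain ⟨T, g, t, hg, hgt, h, hh⟩ := SmoothSection.exists_etale_section (f.smoothLocus.ι ≫ f) ⟨x, hmem⟩
    exact ⟨T, g, t, hg, hgt, h ≫ f.smoothLocus.ι, (Category.assoc _ _ _).trans hh⟩
  choose T g t hg hgt h hh using key
  refine ⟨∐ T, Sigma.desc g, IsZariskiLocalAtSource.sigmaDesc hg, ⟨fun s => ⟨Sigma.ι T s (t s), ?_⟩⟩, Sigma.desc h, ?_⟩
  · rw [← Scheme.Hom.comp_apply, Sigma.ι_desc]
    exact hgt s
  · ext s : 1
    simp [hh s]

/-- The Picard scheme of a family of curves is smooth. -/
theorem smooth_pic_curve [GeometricallyConnected f] (hne : ∀ s, Nonempty ↥(f.fiber s))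
    (hdim : ∀ s, topologicalKrullDim ↥(f.fiber s) ≤ (1 : WithBot ℕ∞))
    {P : Over S} {φ : ∀ T : Over S, PicF.Cl (PicF.XT f T) → (T ⟶ P)}
    (hP : AbDual.IsRelPicK Scheme.fppfPrecoverage f P φ) [LocallyOfFinitePresentation P.hom] :
    Smooth P.hom := by
  obtain ⟨S', g, hg, hgs, h, hh⟩ := exists_etale_section_cover f hne
  haveI := hg
  haveI := hgs
  let f' := pullback.snd f g
  haveI : IsProper f' := MorphismProperty.pullback_snd _ _ inferInstance
  haveI : Flat f' := MorphismProperty.pullback_snd _ _ inferInstance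
  haveI : LocallyOfFinitePresentation f' := MorphismProperty.pullback_snd _ _ inferInstance
  haveI : GeometricallyReduced f' := MorphismProperty.pullback_snd _ _ inferInstance
  haveI : GeometricallyConnected f' := MorphismProperty.pullback_snd _ _ inferInstance
  have hdim' : ∀ s, topologicalKrullDim ↥(f'.fiber s) ≤ (1 : WithBot ℕ∞) := fun s =>
    (f'.fiberHomeo s).isHomeomorph.topologicalKrullDim_eq.trans_le (topologicalKrullDim_preimage_le f hdim g s)
  haveI : LocallyOfFinitePresentation (Over.mk (pullback.snd P.hom g)).hom :=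
    MorphismProperty.pullback_snd (P := @LocallyOfFinitePresentation) _ _ inferInstance
  haveI : Smooth (pullback.snd P.hom g) := smooth_of_section f' (pullback.lift h (𝟙 S') (by rw [Category.id_comp, hh]))
    (pullback.lift_snd _ _ _) hdim' (P := Over.mk (pullback.snd P.hom g)) (isRelPicK_baseChange f g P φ hP)
  haveI : Smooth (pullback.snd P.hom g ≫ g) := inferInstance
  have hloc : Smooth ((⊤ : P.left.Opens).ι ≫ P.hom) := smooth_of_locally P.hom ⊤ fun p _ => by
    obtain ⟨q, rfl⟩ := (pullback.fst P.hom g).surjective p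
    haveI : Flat (pullback.fst P.hom g) := MorphismProperty.pullback_fst _ _ inferInstance
    haveI : LocallyOfFinitePresentation (pullback.snd P.hom g ≫ g) := inferInstance
    exact Groth.Agent.S2805.result P.hom (pullback.snd P.hom g ≫ g) (pullback.fst P.hom g) pullback.condition q
      (Flat.stalkMap _ q) ⟨⊤, trivial, inferInstance⟩
  have e : P.hom = (Scheme.topIso P.left).inv ≫ ((⊤ : P.left.Opens).ι ≫ P.hom) := by simp
  rw [e]
  infer_instance

end Groth.Agent.PicSm20
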