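import Groth.Agent.Lib.NPow20.Base
import Groth.Agent.Lib.CBC10.FreeAt
import Groth.Agent.Lib.CBC10.Near
import Groth.Agent.Lib.CartExt13.Divisor
import Groth.Agent.S2380

/-!
# Vanishing of the cohomology of the structure sheaf on fibres
-/

set_option autoImplicit false
set_option linter.style.haveILetI false
set_option backward.isDefEq.respectTransparency false

universe u

open CategoryTheory CategoryTheory.Limits AlgebraicGeometry TopologicalSpace Opposite

namespace Groth.Agent.PicSm20

attribute [local instance] M2.law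

/-- The structure module pulls back to the structure module. -/
theorem nonempty_pullback_structureModule {X Y : Scheme.{u}} (g : X ⟶ Y) :
    Nonempty ((Scheme.Modules.pullback g).obj (Coh.structureModule Y) ≅ Coh.structureModule X) := by
  refine (PicGrp.cls_eq_cls_iff (PicLoc.isInvertible_pullback g (PicLoc.isInvertible_structureModule Y))
    (PicLoc.isInvertible_structureModule X)).1 ?_
  rw [← PicGrp.pullHom_cls g (M2.pullMul g) _ (PicLoc.isInvertible_structureModule Y), PicGrp.cls_structureModule_eq_one, PicGrp.cls_structureModule_eq_one]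
  exact map_one _

variable {X S : Scheme.{u}} (f : X ⟶ S) [IsProper f] [Flat f] [IsLocallyNoetherian S]

/-- Near a point where `H^p` of the fibre vanishes, it vanishes for all field-valued points. -/
theorem exists_open_subsingleton_HH (s : S) (p : ℕ)
    (h : Subsingleton (Coh.HH (pullback f (S.fromSpecResidueField s)) (Coh.structureModule _) p)) :
    ∃ U : S.Opens, s ∈ U ∧ ∀ (K : Type u) [Field K] (t : Spec (.of K) ⟶ S) {X' : Scheme.{u}} (g : X' ⟶ X)
      (r : X' ⟶ Spec (.of K)), IsPullback g r f t → t.base (IsLocalRing.closedPoint K) ∈ U →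
        Subsingleton (Coh.HH X' (Coh.structureModule X') p) := by
  haveI : IsLocallyNoetherian X := LocallyOfFiniteType.isLocallyNoetherian f
  obtain ⟨W, hW, hsW, -⟩ := exists_isAffineOpen_mem_and_subset (X := S) (x := s) (U := ⊤) trivial
  obtain ⟨P, h1, h2, -, -, hP⟩ := CBC10.exists_complexOn (f := f) (M1.isCoh_structureModule X)
    (CartExt13.isFlatOver_structureModule f) hW
  haveI : IsNoetherianRing Γ(S, W) := IsLocallyNoetherian.component_noetherian ⟨W, hW⟩
  haveI := h1
  haveI := h2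
  have key : ∀ (K : Type u) [Field K] [Algebra Γ(S, W) K] {X' : Scheme.{u}} (g : X' ⟶ X) (r : X' ⟶ Spec (.of K)),
      IsPullback g r f (Spec.map (CommRingCat.ofHom (algebraMap Γ(S, W) K)) ≫ hW.fromSpec) →
      (Subsingleton (Coh.HH X' (Coh.structureModule X') p) ↔
        CohIII.dRank P (-(p : ℤ)) (PrimeSpectrum.comap (algebraMap Γ(S, W) K) ⟨⊥, Ideal.isPrime_bot⟩) = 0) := by
    intro K _ _ X' g r hsq
    letI : X'.Over (Spec (CommRingCat.of K)) := ⟨r⟩
    have hsq' : IsPullback g (X' ↘ Spec (CommRingCat.of K)) f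
        (Spec.map (CommRingCat.ofHom (algebraMap Γ(S, W) K)) ≫ hW.fromSpec) := hsq
    obtain ⟨ε, -⟩ := hP.exists_bc (M1.isQCoh_structureModule X) hsq' 
    obtain ⟨i⟩ := nonempty_pullback_structureModule g
    rw [← CBC10.subsingleton_T_field_iff P K]
    exact ((ε p).toEquiv.trans (CBC10.hmapLinEquiv K i p).toEquiv).subsingleton_congr.symm
  letI := CBC10.algEval (U := W) hsW
  have hs0 : CohIII.dRank P (-(p : ℤ)) (hW.primeIdealOf ⟨s, hsW⟩) = 0 := by
    have hsq : IsPullback (pullback.fst f (S.fromSpecResidueField s)) (pullback.snd f (S.fromSpecResidueField s)) f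
        (S.fromSpecResidueField s) := IsPullback.of_hasPullback _ _
    rw [← CBC10.comap_evaluation (hU := hW) hsW]
    refine (key (S.residueField s) (pullback.fst f (S.fromSpecResidueField s)) (pullback.snd f (S.fromSpecResidueField s)) ?_).1 h
    exact Eq.mp (congrArg (fun z => IsPullback (pullback.fst f (S.fromSpecResidueField s))
      (pullback.snd f (S.fromSpecResidueField s)) f z) (CBC10.fromSpecResidueField_eq (hU := hW) hsW)) hsq
  have ho : IsOpen {x : PrimeSpectrum Γ(S, W) | CohIII.dRank P (-(p : ℤ)) x = 0} := by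
    refine isOpen_iff_mem_nhds.2 fun x hx => ?_
    filter_upwards [Groth.Agent.S2380.result P (fun i => ⟨h1 i, h2 i⟩) (-(p : ℤ)) x 1 (show CohIII.dRank P (-(p : ℤ)) x < 1 by rw [show CohIII.dRank P (-(p : ℤ)) x = 0 from hx]; exact one_pos)]
      with y hy
    exact Nat.lt_one_iff.1 hy
  refine ⟨hW.fromSpec ''ᵁ ⟨_, ho⟩, ⟨hW.primeIdealOf ⟨s, hsW⟩, hs0, hW.fromSpec_primeIdealOf ⟨s, hsW⟩⟩, ?_⟩
  rintro K _ t X' g r hsq ⟨x, hx0, hx⟩
  have hrange : Set.range t.base ⊆ Set.range hW.fromSpec.base := by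
    rintro _ ⟨y, rfl⟩
    rw [Subsingleton.elim (α := PrimeSpectrum K) y (IsLocalRing.closedPoint K)]
    exact ⟨x, hx⟩
  let t₁ := IsOpenImmersion.lift hW.fromSpec t hrange
  have ht₁ : t₁ ≫ hW.fromSpec = t := IsOpenImmersion.lift_fac _ _ _
  obtain ⟨φ, hφ⟩ := Spec.map_surjective t₁
  letI : Algebra Γ(S, W) K := φ.hom.toAlgebra
  have hφ' : Spec.map (CommRingCat.ofHom (algebraMap Γ(S, W) K)) = t₁ := hφ
  rw [key K g r (by rw [hφ', ht₁]; exact hsq)]
  have hpt : PrimeSpectrum.comap (algebraMap Γ(S, W) K) ⟨⊥, Ideal.isPrime_bot⟩ = x := by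
    have h1 : hW.fromSpec.base (t₁.base ⟨⊥, Ideal.isPrime_bot⟩) = t.base ⟨⊥, Ideal.isPrime_bot⟩ :=
      congr($(ht₁).base ⟨⊥, Ideal.isPrime_bot⟩)
    refine hW.fromSpec.isOpenEmbedding.injective ?_
    rw [← hφ] at h1
    refine Eq.trans h1 (Eq.trans ?_ hx.symm)
    exact congrArg _ (Subsingleton.elim (α := PrimeSpectrum K) _ _)
  rw [hpt]
  exact hx0

end Groth.Agent.PicSm20
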