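import Groth.Agent.Lib.NPow20.Base
import Groth.Agent.Lib.FGA3.UnitsInduct

/-!
# Lifting invertible modules over Artinian local rings when `H²` of the closed fibre vanishes
-/

set_option autoImplicit false
set_option linter.style.haveILetI false
set_option backward.isDefEq.respectTransparency false

universe u

open CategoryTheory CategoryTheory.Limits AlgebraicGeometry TopologicalSpace Opposite

namespace Groth.Agent.PicSm20

attribute [local instance] M2.law

open NPow20

/-- Surjectivity of restriction of Picard groups to the reduction. -/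
theorem exists_pl_eq {A : Type u} [CommRing A] [IsLocalRing A] [IsArtinianRing A] {X : Scheme.{u}}
    (q : X ⟶ Spec (.of A)) [Flat q] (J : Ideal A) (hJ : J ≤ IsLocalRing.maximalIdeal A)
    [Subsingleton (Coh.HH (pullback q (FGA3.spQ (IsLocalRing.maximalIdeal A))) (Coh.structureModule _) 2)]
    (c : PicLoc.PicSet (pullback q (FGA3.spQ J))) : ∃ d : PicLoc.PicSet X, pl (FGA3.iq q J) d = c := by
  haveI : IsClosedImmersion (FGA3.spQ J) := IsClosedImmersion.spec_of_surjective _ Ideal.Quotient.mk_surjective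
  haveI : IsClosedImmersion (FGA3.iq q J) := inferInstanceAs (IsClosedImmersion (pullback.fst q (FGA3.spQ J)))
  have hG : PicH1_21.Good (FGA3.iq q J) := PicH1_21.good_of_isEmbedding (FGA3.iq q J).isClosedEmbedding
  obtain ⟨x, hx⟩ := FGA3.surjective_mp_cJ q (q := 1) J hJ (PicH1_21.picEquiv hG (Additive.ofMul c))
  refine ⟨Additive.toMul ((PicH1_21.picEquivId X).symm x), Additive.ofMul.injective ((PicH1_21.picEquiv hG).injective ?_)⟩
  rw [PicH1_21.picEquiv_pullHom hG]
  exact (congrArg _ (AddEquiv.apply_symm_apply _ _)).trans hx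

variable {X S : Scheme.{u}} {f : X ⟶ S}

/-- Surjectivity on a test object. -/
theorem exists_pl_tmk_eq [Flat f] {A : Type u} [CommRing A] [IsLocalRing A] [IsArtinianRing A] (J : Ideal A)
    (hJ : J ≤ IsLocalRing.maximalIdeal A) (t : Spec (.of A) ⟶ S)
    [Subsingleton (Coh.HH (pullback (PicF.XTproj f (Ts A t)) (FGA3.spQ (IsLocalRing.maximalIdeal A)))
      (Coh.structureModule _) 2)]
    (c : PicLoc.PicSet (PicF.XT f (Ts0 J t))) :
    ∃ d : PicLoc.PicSet (PicF.XT f (Ts A t)), pl (PicF.XTmap f (tmk J t)) d = c := by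
  let e : PicF.XT f (Ts0 J t) ≅ pullback (PicF.XTproj f (Ts A t)) (FGA3.spQ J) :=
    (HilbBC25.isPullback_XTmap f (tmk J t)).isoPullback
  haveI : Flat (PicF.XTproj f (Ts A t)) := inferInstanceAs (Flat (pullback.snd f _))
  obtain ⟨d, hd⟩ := exists_pl_eq (PicF.XTproj f (Ts A t)) J hJ (pl e.inv c)
  refine ⟨d, ?_⟩
  have he : e.hom ≫ FGA3.iq (PicF.XTproj f (Ts A t)) J = PicF.XTmap f (tmk J t) :=
    (HilbBC25.isPullback_XTmap f (tmk J t)).isoPullback_hom_fst
  have h2 : pl e.hom (pl e.inv c) = c := by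
    rw [← pl_comp]; exact Subtype.ext (by rw [PicGrp.pullHom_apply_val, e.hom_inv_id, PicLoc.pullCl_id])
  rw [← h2, ← hd, ← pl_comp]
  exact Subtype.ext (by rw [PicGrp.pullHom_apply_val, PicGrp.pullHom_apply_val, he])

/-- Homomorphisms into a finite flat local extension which reduce into the base descend linearly. -/
theorem exists_descend {A : Type u} [CommRing A] [IsLocalRing A] [IsArtinianRing A] (E : Ext A) {I : Ideal A}
    (hII : I * I = ⊥) {B : Type u} [CommRing B] (g' : B →+* E.C) (g₀ : B →+* A ⧸ I)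
    (h : (Ideal.Quotient.mk (I.map E.α)).comp g' = (qmap E I).comp g₀) :
    ∃ g : B →+* A, (Ideal.Quotient.mk I).comp g = g₀ ∧ ∀ (b : B) (a : A), g' b = E.α a → g b = a := by
  letI : Algebra A E.C := E.α.toAlgebra
  haveI : Module.Flat A E.C := E.flat
  haveI : Module.Finite A E.C := E.finite
  haveI : Module.FinitePresentation A E.C := Module.finitePresentation_of_finite _ _
  haveI : Module.Free A E.C := Module.free_of_flat_of_isLocalRing
  let b := Module.Free.chooseBasis A E.C
  obtain ⟨i, hi⟩ : ∃ i, IsUnit (b.repr 1 i) := by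
    by_contra hcon
    rw [not_exists] at hcon
    have h1 : (1 : E.C) ∈ (IsLocalRing.maximalIdeal A).map E.α := by
      rw [← b.linearCombination_repr 1, Finsupp.linearCombination_apply]
      refine Ideal.sum_mem _ fun j _ => ?_
      show b.repr 1 j • b j ∈ _
      rw [Algebra.smul_def]
      exact Ideal.mul_mem_right _ _ (Ideal.mem_map_of_mem _ (hcon j))
    haveI := E.isLocalHom
    refine (IsLocalRing.maximalIdeal.isMaximal E.C).ne_top ((Ideal.eq_top_iff_one _).2 ?_)
    exact (Ideal.map_le_iff_le_comap.2 (fun a ha hu => (IsLocalRing.mem_maximalIdeal a).1 ha (isUnit_of_map_unit E.α a hu) : IsLocalRing.maximalIdeal A ≤ (IsLocalRing.maximalIdeal E.C).comap E.α)) h1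
  let ρ : E.C →ₗ[A] A := (↑hi.unit⁻¹ : A) • b.coord i
  have hρ : ρ 1 = 1 := hi.val_inv_mul
  have hρα : ∀ a : A, ρ (E.α a) = a := fun a => by
    rw [show E.α a = a • (1 : E.C) from Algebra.algebraMap_eq_smul_one a, map_smul, hρ, smul_eq_mul, mul_one]
  have hρI : ∀ j ∈ I.map E.α, ρ j ∈ I := fun j hj => by
    have hj' : j ∈ I • (⊤ : Submodule A E.C) := by
      rw [Ideal.smul_top_eq_map]; exact hj
    refine Submodule.smul_induction_on hj' (fun a ha x _ => ?_) (fun x y hx hy => by rw [map_add]; exact add_mem hx hy)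
    rw [map_smul, smul_eq_mul]
    exact I.mul_mem_right _ ha
  have hdec : ∀ x : B, ∃ a : A, g' x - E.α a ∈ I.map E.α ∧ Ideal.Quotient.mk I a = g₀ x := fun x => by
    obtain ⟨a, ha⟩ := Ideal.Quotient.mk_surjective (g₀ x)
    refine ⟨a, Ideal.Quotient.eq.1 (Eq.trans (RingHom.congr_fun h x) ?_), ha⟩
    show qmap E I (g₀ x) = _
    rw [← ha]
    exact Ideal.quotientMap_mk
  have hmk : ∀ x, Ideal.Quotient.mk I (ρ (g' x)) = g₀ x := fun x => by
    obtain ⟨a, ha, hax⟩ := hdec x
    rw [← hax, Ideal.Quotient.eq, ← hρα a, ← map_sub]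
    exact hρI _ ha
  have hmul : ∀ x y, ρ (g' (x * y)) = ρ (g' x) * ρ (g' y) := fun x y => by
    obtain ⟨a, ha, -⟩ := hdec x
    obtain ⟨c, hc, -⟩ := hdec y
    have hz : (g' x - E.α a) * (g' y - E.α c) = 0 := by
      rw [← Ideal.mem_bot, ← map_mul_self E hII]
      exact Ideal.mul_mem_mul ha hc
    have hz' : (ρ (g' x) - a) * (ρ (g' y) - c) = 0 := by
      rw [← Ideal.mem_bot, ← hII]
      refine Ideal.mul_mem_mul ?_ ?_
      · rw [← hρα a, ← map_sub]; exact hρI _ ha
      · rw [← hρα c, ← map_sub]; exact hρI _ hc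
    have e : g' (x * y) = a • g' y + c • g' x - E.α (a * c) := by
      rw [map_mul, map_mul E.α, Algebra.smul_def, Algebra.smul_def]
      show _ = E.α a * g' y + E.α c * g' x - _
      linear_combination hz
    rw [e, map_sub, map_add, map_smul, map_smul, hρα, smul_eq_mul, smul_eq_mul]
    linear_combination -hz'
  exact ⟨
    { toFun := fun x => ρ (g' x)
      map_one' := by rw [map_one, hρ]
      map_mul' := hmul
      map_zero' := by rw [map_zero, map_zero]
      map_add' := fun x y => by rw [map_add, map_add] },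
    RingHom.ext hmk, fun x a ha => (congrArg ρ ha).trans (hρα a)⟩

end Groth.Agent.PicSm20
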